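import Mathlib
import Groth.Agent.Lib.Helper5.SD.StabH1
import Groth.Agent.Lib.Helper5.SD.StabGG
import Groth.Agent.Lib.Helper5.SD.HopfLem
import Groth.Agent.Lib.Helper5.ParSh.D
import Groth.Agent.Lib.Helper5.Curve6.SSH1
import Groth.Agent.Lib.Lead.KSch.WeilFin6
import Groth.Agent.Lib.Lead.QC.TwistBack
import Groth.Agent.Lib.Helper5.Glue.F
import Groth.Agent.Lib.Helper5.Curve2.I

/-!
# Vanishing of `H¹(T ⊗ I_E)` from surjectivity of restriction to a divisor (S15681), part 1

If `H¹(T ⊗ I_E) ≠ 0` then `T` has an invertible quotient of degree `≤ 2g - 2 + deg E`.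
-/

set_option autoImplicit false
set_option linter.style.haveILetI false
universe u
open CategoryTheory CategoryTheory.Limits AlgebraicGeometry TopologicalSpace Opposite MonoidalCategory

namespace Groth.Agent.H5.SecVan

open Groth.Agent.LD Groth.Agent.LD.QC Groth.Agent.H5.Curve4 Groth.Agent.H5.SD

/-- the whiskered map of the statement is `tensorMap (𝟙 T) g`. -/
lemma whisker_eq_tensorMap {X : Scheme.{u}} (T : X.Modules) {N N' : X.Modules} (g : N ⟶ N') :
    ((CohB1.sheafifyMod X).map (CohB1.toPMod T ◁ g.val) :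
      CohB1.tensorMod T N ⟶ CohB1.tensorMod T N') = KoszTw.tensorMap (𝟙 T) g := by
  rw [KoszTw.tensorMap_eq_sheafify]
  congr 1

variable (k : Type u) [Field k] (X : Scheme.{u}) [X.Over (Spec (CommRingCat.of k))]
  [IsProper (X ↘ Spec (CommRingCat.of k))] [Smooth (X ↘ Spec (CommRingCat.of k))] [IsIntegral X]

/-- if `H¹(T ⊗ I_E) ≠ 0`, `T` has an invertible quotient of degree `≤ 2g - 2 + deg E`. -/
theorem exists_quotient_of_H1 [IsAlgClosed k] (hdim : topologicalKrullDim X = 1)
    (T : X.Modules) (hT : FlatMod.IsFinLocFree T)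
    (E : X.IdealSheafData) (hE : BlowUp.IsEffCartierIdeal E)
    (h1 : Nontrivial (Coh.HH X (CohB1.tensorMod T (ClSub.idealMod E)) 1)) :
    ∃ (Q : X.Modules) (q : T ⟶ Q), PicF.IsInvertible Q ∧ Epi q ∧
      Curv2.deg k X Q 1 ≤ 2 * (Curv2.genus k X : ℤ) - 2 +
        (Module.finrank k (Coh.HH X (ClSub.quotMod E) 0) : ℤ) := by
  haveI := Curve.isLocallyNoetherian k X
  have h0 : Module.finrank k (Coh.HH X (Coh.structureModule X) 0) = 1 :=
    Groth.Agent.H5.Curve3.finrank_HH0_eq_one_of_isAlgClosed k X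
  obtain ⟨r, hTr⟩ := exists_rank hT
  have hTc : Coh.IsCoh T := Curve.isCoh_of_rank hTr
  haveI : T.IsQuasicoherent := hTc.1
  have hIinv : PicF.IsInvertible (ClSub.idealMod E) := (isInvertible_idealMod_iff E).mpr hE
  haveI : (ClSub.idealMod E).IsQuasicoherent := qc_of_isInvertible _ hIinv
  obtain ⟨L, hL, ⟨e⟩⟩ := Groth.Agent.H5.Glue.exists_inverse _ hIinv
  haveI : L.IsQuasicoherent := qc_of_isInvertible L hL
  have hFr : FlatMod.IsFinLocFreeOfRank r (CohB1.tensorMod T (ClSub.idealMod E)) :=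
    isFinLocFreeOfRank_tensorMod_invertible r T _ hTr hIinv
  have hFc : Coh.IsCoh (CohB1.tensorMod T (ClSub.idealMod E)) := Curve.isCoh_of_rank hFr
  obtain ⟨ω, t, hω, hd⟩ := exists_dualizing_curve k X hdim
  obtain ⟨φ, hφ⟩ := hd.exists_ne_zero _ hFc h1
  have hreg := regular_stalks k X
  have hinv : PicF.IsInvertible ω := hd.isInvertible hω hdim hreg
  have hω1 : FlatMod.IsFinLocFreeOfRank 1 ω := (isInvertible_iff ω).mp hinv
  obtain ⟨a, b, hab, hK, hI, hdegs⟩ := kernel_image_facts k X hdim.le r 1 hFr hω1 φ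
  have hbpos := rank_coimage_pos X hφ b hI
  haveI : Nonempty X := nonempty_of_dim_eq_one X hdim
  have hble : b ≤ 1 := rank_le_of_mono X (Abelian.factorThruCoimage φ) b 1 hI hω1
  have hb : b = 1 := by omega
  subst hb
  have hdegω := hd.deg_eq hinv hdim h0
  have hle := (Curve.deg_le_of_mono k X hdim.le 1 hI hω1 (Abelian.factorThruCoimage φ)).1
  have hQ'inv : PicF.IsInvertible (Abelian.coimage φ) := (isInvertible_iff _).mpr hI
  haveI : (Abelian.coimage φ).IsQuasicoherent := qc_of_isInvertible _ hQ'inv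
  -- twist back
  refine ⟨CohB1.tensorMod (Abelian.coimage φ) L,
    (backIso (ClSub.idealMod E) L e T).inv ≫ KoszTw.tensorMap (Abelian.coimage.π φ) (𝟙 L), ?_, ?_, ?_⟩
  · exact (isInvertible_iff _).mpr
      (isFinLocFreeOfRank_tensorMod_invertible 1 _ L hI hL)
  · haveI : Epi (KoszTw.tensorMap (Abelian.coimage.π φ) (𝟙 L)) :=
      Groth.Agent.LD.KSch.epi_tensorMap _ _
    exact epi_comp _ _
  · have hd1 := Groth.Agent.H5.Curve2.deg_tensor k X hdim.le hQ'inv hL
    have hd2 := Groth.Agent.H5.Curve2.deg_tensor k X hdim.le hIinv hL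
    have hd3 := Curve.deg_iso k X e 1
    rw [Curve.deg_structureModule] at hd3
    have hd4 := Groth.Agent.H5.ParSh.deg_idealMod k X hdim E hE
    rw [hd1]
    rw [hd2, hd4] at hd3
    linarith

end Groth.Agent.H5.SecVan
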