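import Mathlib
import Groth.Agent.Lib.Helper5.SecVan.Quot

/-!
# Vanishing of `H¹(T ⊗ I_E)` from surjectivity of restriction to a divisor (S15681), part 2
-/

set_option autoImplicit false
set_option linter.style.haveILetI false
universe u
open CategoryTheory CategoryTheory.Limits AlgebraicGeometry TopologicalSpace Opposite MonoidalCategory

namespace Groth.Agent.H5.SecVan

open Groth.Agent.LD Groth.Agent.LD.QC Groth.Agent.H5.Curve4 Groth.Agent.H5.SD
  Groth.Agent.H5.ParSh Groth.Agent.H5.DegC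

variable (k : Type u) [Field k] (X : Scheme.{u}) [X.Over (Spec (CommRingCat.of k))]
  [IsProper (X ↘ Spec (CommRingCat.of k))] [Smooth (X ↘ Spec (CommRingCat.of k))] [IsIntegral X]

/-- if `H⁰(T) → H⁰(T ⊗ O_D)` is onto, every invertible quotient `Q` of `T` has
`h⁰(Q) ≥ deg D`. -/
theorem le_h0_of_surj (hdim : topologicalKrullDim X = 1)
    (T : X.Modules) (hT : FlatMod.IsFinLocFree T)
    (D : X.IdealSheafData) (hD : BlowUp.IsEffCartierIdeal D)
    (hsurj : Function.Surjective
      (CL.HHmapZ (KoszTw.tensorMap (𝟙 T) (ClSub.toSubscheme D)) 0))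
    (Q : X.Modules) (hQ : PicF.IsInvertible Q) (q : T ⟶ Q) [Epi q] :
    Module.finrank k (Coh.HH X (ClSub.quotMod D) 0) ≤ Module.finrank k (Coh.HH X Q 0) := by
  haveI := Curve.isLocallyNoetherian k X
  obtain ⟨r, hTr⟩ := exists_rank hT
  have hTc : Coh.IsCoh T := Curve.isCoh_of_rank hTr
  haveI : T.IsQuasicoherent := hTc.1
  have hQ1 : FlatMod.IsFinLocFreeOfRank 1 Q := (isInvertible_iff Q).mp hQ
  have hQc : Coh.IsCoh Q := Curve.isCoh_of_rank hQ1
  haveI : Q.IsQuasicoherent := hQc.1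
  have hOD := isCoh_quotMod D
  haveI : (ClSub.quotMod D).IsQuasicoherent := hOD.1
  -- the epimorphism on `D`
  let φD : ParSh.resD D T ⟶ ParSh.resD D Q := KoszTw.tensorMap q (𝟙 (ClSub.quotMod D))
  haveI : Epi φD := Groth.Agent.LD.KSch.epi_tensorMap q (𝟙 _)
  have hS : (ShortComplex.mk (kernel.ι φD) φD (kernel.condition φD)).ShortExact :=
    { exact := ShortComplex.exact_kernel φD
      mono_f := inferInstanceAs (Mono (kernel.ι φD))
      epi_g := inferInstanceAs (Epi φD) }
  have hAc := isCoh_resD D hTc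
  have hBc := isCoh_resD D hQc
  have hKc : Coh.IsCoh (kernel φD) := isCoh_kernel φD hAc hBc
  have hKt : IsTors (kernel φD) := isTors_left hS (isTors_resD hdim D hD T)
  have hK1 : Subsingleton (Coh.HH X (kernel φD) 1) :=
    subsingleton_H1_of_support_closed_points' k hdim.le _ hKc
      (fun y hy => isClosed_of_isTors hdim.le hKt y hy)
  have hs1 : Function.Surjective (CL.HHmapZ φD 0) := CL.surjective_of_subsingleton hS 0 hK1
  -- the commutative square
  have hsq : KoszTw.tensorMap (𝟙 T) (ClSub.toSubscheme D) ≫ φD =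
      KoszTw.tensorMap q (𝟙 (unitMod X)) ≫ KoszTw.tensorMap (𝟙 Q) (ClSub.toSubscheme D) := by
    rw [← KoszTw.tensorMap_comp, ← KoszTw.tensorMap_comp, Category.id_comp, Category.comp_id,
      Category.id_comp, Category.comp_id]
  have hs2 : Function.Surjective
      (CL.HHmap k (KoszTw.tensorMap (𝟙 Q) (ClSub.toSubscheme D)) 0) := by
    intro y
    obtain ⟨x, hx⟩ := hs1 y
    obtain ⟨w, hw⟩ := hsurj x
    refine ⟨CL.HHmapZ (KoszTw.tensorMap q (𝟙 (unitMod X))) 0 w, ?_⟩
    change CL.HHmapZ (KoszTw.tensorMap (𝟙 Q) (ClSub.toSubscheme D)) 0 _ = y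
    rw [← CL.HHmapZ_comp, ← hsq, CL.HHmapZ_comp, hw, hx]
  -- dimension count
  have hOc : Coh.IsCoh (unitMod X) :=
    Curve.isCoh_of_rank ((isInvertible_iff _).mp (isInvertible_unit X))
  haveI := Curve.finite_HH k X _ (isCoh_tensorMod hQc hOc) 0
  have h3 := LinearMap.finrank_le_finrank_of_surjective hs2
  have h5 := finrank_H0_resD k X hdim D hD 1 hQ1
  have h4 := (CL.HHisoEquiv k (SecTwist.unitorR Q) 0).finrank_eq
  change Module.finrank k (Coh.HH X (ParSh.resD D Q) 0) ≤ _ at h3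
  rw [h5, one_mul, h4] at h3
  exact h3

/-- **S15681**. -/
theorem subsingleton_H1_of_surj [IsAlgClosed k] (hdim : topologicalKrullDim X = 1)
    (T : X.Modules) (hT : FlatMod.IsFinLocFree T)
    (D : X.IdealSheafData) (hD : BlowUp.IsEffCartierIdeal D)
    (hD1 : 1 ≤ Module.finrank k (Coh.HH X (ClSub.quotMod D) 0))
    (hsurj : Function.Surjective
      (CL.HHmapZ (KoszTw.tensorMap (𝟙 T) (ClSub.toSubscheme D)) 0))
    (E : X.IdealSheafData) (hE : BlowUp.IsEffCartierIdeal E)
    (hdegE : Module.finrank k (Coh.HH X (ClSub.quotMod E) 0) + 2 * Curv2.genus k X =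
      Module.finrank k (Coh.HH X (ClSub.quotMod D) 0)) :
    Subsingleton (Coh.HH X (CohB1.tensorMod T (ClSub.idealMod E)) 1) := by
  by_contra hns
  have h1 : Nontrivial (Coh.HH X (CohB1.tensorMod T (ClSub.idealMod E)) 1) :=
    not_subsingleton_iff_nontrivial.mp hns
  obtain ⟨Q, q, hQ, hq, hdeg⟩ := exists_quotient_of_H1 k X hdim T hT E hE h1
  haveI := hq
  have hm := le_h0_of_surj k X hdim T hT D hD hsurj Q hQ q
  have h0 : Module.finrank k (Coh.HH X (Coh.structureModule X) 0) = 1 :=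
    Groth.Agent.H5.Curve3.finrank_HH0_eq_one_of_isAlgClosed k X
  obtain ⟨s, hs⟩ := exists_section_ne_zero k X Q (by omega)
  have hb := (Groth.Agent.H5.Curve2.finrank_H0_le_deg_add_one k X hdim.le h0 hQ s hs).1
  have hm' : (Module.finrank k (Coh.HH X (ClSub.quotMod D) 0) : ℤ) ≤
      Module.finrank k (Coh.HH X Q 0) := by exact_mod_cast hm
  have he : ((Module.finrank k (Coh.HH X (ClSub.quotMod E) 0) + 2 * Curv2.genus k X : ℕ) : ℤ) =
      (Module.finrank k (Coh.HH X (ClSub.quotMod D) 0) : ℤ) := by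
    exact_mod_cast congrArg (fun n : ℕ => (n : ℤ)) hdegE
  push_cast at he
  linarith

end Groth.Agent.H5.SecVan
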